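import Groth.Agent.VarNormal.GeomNormal

/-! Geometric normality of algebras, left-handed forms. -/

universe u

open scoped TensorProduct

namespace Groth.Agent.VarNormal

variable (k : Type u) [Field k] (A : Type u) [CommRing A] [Algebra k A]

theorem isNormalRing_comm (K : Type u) [CommRing K] [Algebra k K] (h : EGA4.IsNormalRing (A ⊗[k] K)) :
    EGA4.IsNormalRing (K ⊗[k] A) :=
  EGA4H10.isNormalRing_of_ringEquiv (Algebra.TensorProduct.comm k A K).toRingEquiv h

theorem isNormalRing_left_of_forall
    (h : ∀ (k' : Type u) [Field k'] [Algebra k k'], Module.Finite k k' → IsPurelyInseparable k k' →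
      EGA4.IsNormalRing (k' ⊗[k] A))
    (K : Type u) [Field K] [Algebra k K] : EGA4.IsNormalRing (K ⊗[k] A) :=
  isNormalRing_comm k A K (isNormalRing_tensor_of_forall k A
    (fun k' _ _ hfd hpi => EGA4H10.isNormalRing_of_ringEquiv (Algebra.TensorProduct.comm k k' A).toRingEquiv
      (h k' hfd hpi)) K)

theorem isNormalRing_of_isGeomNormal (h : EGA4.IsGeomNormal k A) (K : Type u) [Field K] [Algebra k K] :
    EGA4.IsNormalRing (K ⊗[k] A) :=
  isNormalRing_left_of_forall k A (fun k' _ _ hf _ => h k' hf) K

theorem isGeomNormal_baseChange (h : EGA4.IsGeomNormal k A) (K : Type u) [Field K] [Algebra k K] :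
    EGA4.IsGeomNormal K (K ⊗[k] A) := fun L _ _ _ => by
  let _ : Algebra k L := ((algebraMap K L).comp (algebraMap k K)).toAlgebra
  have : IsScalarTower k K L := .of_algebraMap_eq' rfl
  exact EGA4H10.isNormalRing_of_ringEquiv (Algebra.TensorProduct.cancelBaseChange k K L L A).symm.toRingEquiv
    (isNormalRing_of_isGeomNormal k A h L)

theorem isGeomNormal_of_baseChange (K : Type u) [Field K] [Algebra k K] (h : EGA4.IsGeomNormal K (K ⊗[k] A)) :
    EGA4.IsGeomNormal k A := fun k' _ _ hf => by
  have := hf
  let L := AlgebraicClosure K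
  let σ : k' →ₐ[k] L := IsAlgClosed.lift
  let _ : Algebra k' L := σ.toRingHom.toAlgebra
  have : IsScalarTower k k' L := .of_algebraMap_eq fun x => (σ.commutes x).symm
  have h1 : EGA4.IsNormalRing (A ⊗[k] L) := EGA4H10.isNormalRing_of_ringEquiv
    ((Algebra.TensorProduct.cancelBaseChange k K L L A).toRingEquiv.trans
      (Algebra.TensorProduct.comm k L A).toRingEquiv)
    (isNormalRing_of_isGeomNormal K (K ⊗[k] A) h L)
  exact isNormalRing_comm k A k' (isNormalRing_tensor_descend k A k' L h1)

end Groth.Agent.VarNormal
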