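import Groth.Agent.VarNormal.Separable
import Groth.Agent.Unr55.EtAscent
import Groth.Agent.FBase64.TensorField
import Mathlib.FieldTheory.PurelyInseparable.PerfectClosure
import Mathlib.RingTheory.Flat.FaithfullyFlat.Algebra

/-! Geometric normality needs only finite purely inseparable extensions. -/

universe u

open scoped TensorProduct nonZeroDivisors

namespace Groth.Agent.VarNormal

theorem isNormalRing_of_faithfullyFlat (A B : Type u) [CommRing A] [CommRing B] [Algebra A B]
    [Module.FaithfullyFlat A B] (hB : EGA4.IsNormalRing B) : EGA4.IsNormalRing A := by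
  intro P _
  obtain ⟨Q, hQ⟩ := PrimeSpectrum.comap_surjective_of_faithfullyFlat (A := A) (B := B) ⟨P, inferInstance⟩
  have hP : P = Q.asIdeal.comap (algebraMap A B) := (congrArg PrimeSpectrum.asIdeal hQ).symm
  obtain ⟨_, _⟩ := hB Q.asIdeal
  let g : Localization.AtPrime P →+* Localization.AtPrime Q.asIdeal :=
    Localization.localRingHom P Q.asIdeal (algebraMap A B) hP
  let := g.toAlgebra
  have : Module.Flat (Localization.AtPrime P) (Localization.AtPrime Q.asIdeal) :=
    (RingHom.flat_algebraMap_iff.2 inferInstance).localRingHom Q.asIdeal P hP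
  have : IsLocalHom (algebraMap (Localization.AtPrime P) (Localization.AtPrime Q.asIdeal)) :=
    Localization.isLocalHom_localRingHom _ _ _ hP
  have := Module.FaithfullyFlat.of_flat_of_isLocalHom (A := Localization.AtPrime P) (B := Localization.AtPrime Q.asIdeal)
  exact Unr55.isNormalDomain_of_faithfullyFlat (Localization.AtPrime P) (Localization.AtPrime Q.asIdeal)

/-- Normality may be tested at maximal ideals. -/
theorem isNormalRing_of_forall_maximal {A : Type u} [CommRing A]
    (h : ∀ (M : Ideal A) [M.IsMaximal], IsDomain (Localization.AtPrime M) ∧ IsIntegrallyClosed (Localization.AtPrime M)) :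
    EGA4.IsNormalRing A := by
  intro P _
  obtain ⟨M, hM, hPM⟩ := P.exists_le_maximal (Ideal.IsPrime.ne_top ‹_›)
  obtain ⟨_, _⟩ := h M
  have hn := EGA4H10.normal_of_domain (Localization.AtPrime M)
  let P' := P.map (algebraMap A (Localization.AtPrime M))
  have hd : Disjoint (M.primeCompl : Set A) P := Set.disjoint_left.2 fun x hx hxP => hx (hPM hxP)
  have : P'.IsPrime := IsLocalization.isPrime_of_isPrime_disjoint M.primeCompl _ P ‹_› hd
  have hP : P'.comap (algebraMap A (Localization.AtPrime M)) = P :=
    IsLocalization.under_map_of_isPrime_disjoint M.primeCompl _ ‹_› hd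
  obtain ⟨_, _⟩ := hn P'
  have : IsLocalization.AtPrime (Localization.AtPrime P') (P'.comap (algebraMap A (Localization.AtPrime M))) :=
    IsLocalization.isLocalization_isLocalization_atPrime_isLocalization M.primeCompl (Localization.AtPrime P') P'
  have : IsLocalization P.primeCompl (Localization.AtPrime P') := by
    have h2 : (P'.comap (algebraMap A (Localization.AtPrime M))).primeCompl = P.primeCompl := by
      ext r; simp only [Ideal.mem_primeCompl_iff, hP]
    rw [← h2]; infer_instance
  let e := (IsLocalization.algEquiv P.primeCompl (Localization.AtPrime P) (Localization.AtPrime P')).toRingEquiv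
  exact ⟨e.toMulEquiv.isDomain _, IsIntegrallyClosed.of_equiv e.symm⟩

variable (k A : Type u) [Field k] [CommRing A] [Algebra k A]

/-- The union of the finite purely inseparable extensions. -/
theorem isNormalRing_tensor_purelyInseparable
    (h : ∀ (k' : Type u) [Field k'] [Algebra k k'] [FiniteDimensional k k'] [IsPurelyInseparable k k'],
      EGA4.IsNormalRing (A ⊗[k] k'))
    (K : Type u) [Field K] [Algebra k K] [IsPurelyInseparable k K] : EGA4.IsNormalRing (A ⊗[k] K) := by
  classical
  refine isNormalRing_of_forall_finset fun s => ?_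
  choose S hS using fun x : A ⊗[k] K => TensorProduct.exists_finset x
  let T : Finset K := s.biUnion fun x => (S x).image Prod.snd
  let K₀ : IntermediateField k K := IntermediateField.adjoin k (T : Set K)
  have : FiniteDimensional k K₀ :=
    IntermediateField.finiteDimensional_adjoin fun x _ => (IsPurelyInseparable.isIntegral' k x)
  have : IsPurelyInseparable k K₀ := IntermediateField.isPurelyInseparable_tower_bot k K K₀
  let j := Algebra.TensorProduct.map (AlgHom.id A A) K₀.val
  refine ⟨A ⊗[k] K₀, inferInstance, j.toRingHom, h K₀, ?_, fun x hx => ?_⟩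
  · exact RingHom.Flat.tensorProductMap (RingHom.Flat.id A)
      (RingHom.Flat.of_isField (Field.toIsField K₀) K₀.val.toRingHom)
  · rw [hS x]
    refine ⟨∑ i : (S x), i.1.1 ⊗ₜ ⟨i.1.2, IntermediateField.subset_adjoin k (T : Set K)
      (Finset.mem_coe.2 (Finset.mem_biUnion.2 ⟨x, hx, Finset.mem_image_of_mem _ i.2⟩))⟩, ?_⟩
    show j _ = _
    rw [map_sum, ← Finset.sum_coe_sort (S x)]
    rfl

theorem isNormalRing_tensor_of_perfectClosure (k₂ L : Type u) [Field k₂] [Algebra k k₂] [PerfectField k₂]
    [Field L] [Algebra k L] [Algebra k₂ L] [IsScalarTower k k₂ L]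
    (h : EGA4.IsNormalRing (A ⊗[k] k₂)) : EGA4.IsNormalRing (A ⊗[k] L) := by
  have : Algebra.IsGeometricallyReduced k₂ L := FBase64.isGeometricallyReduced_of_perfectField k₂ L
  have h1 : EGA4.IsNormalRing (k₂ ⊗[k] A) :=
    EGA4H10.isNormalRing_of_ringEquiv (Algebra.TensorProduct.comm k A k₂).toRingEquiv h
  have h2 := EGA4H10.isNormalRing_of_ringEquiv (Algebra.TensorProduct.comm k₂ (k₂ ⊗[k] A) L).toRingEquiv
    (isNormalRing_tensor_separable k₂ (k₂ ⊗[k] A) L h1)
  have h3 := EGA4H10.isNormalRing_of_ringEquiv (Algebra.TensorProduct.cancelBaseChange k k₂ L L A).toRingEquiv h2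
  exact EGA4H10.isNormalRing_of_ringEquiv (Algebra.TensorProduct.comm k L A).toRingEquiv h3

theorem isNormalRing_tensor_descend (K L : Type u) [Field K] [Algebra k K] [Field L] [Algebra k L] [Algebra K L]
    [IsScalarTower k K L] (h : EGA4.IsNormalRing (A ⊗[k] L)) : EGA4.IsNormalRing (A ⊗[k] K) := by
  have h1 : EGA4.IsNormalRing (L ⊗[K] (K ⊗[k] A)) :=
    EGA4H10.isNormalRing_of_ringEquiv
      ((Algebra.TensorProduct.comm k A L).toRingEquiv.trans
        (Algebra.TensorProduct.cancelBaseChange k K L L A).symm.toRingEquiv) h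
  let _ : Algebra (K ⊗[k] A) (L ⊗[K] (K ⊗[k] A)) := Algebra.TensorProduct.rightAlgebra
  have : Module.FaithfullyFlat (K ⊗[k] A) (L ⊗[K] (K ⊗[k] A)) :=
    Module.FaithfullyFlat.of_linearEquiv (K ⊗[k] A) ((K ⊗[k] A) ⊗[K] L)
      (AlgEquiv.ofRingEquiv (f := (Algebra.TensorProduct.comm K L (K ⊗[k] A)).toRingEquiv) fun x => rfl).toLinearEquiv
  exact EGA4H10.isNormalRing_of_ringEquiv (Algebra.TensorProduct.comm k K A).toRingEquiv
    (isNormalRing_of_faithfullyFlat _ _ h1)

/-- Geometric normality from finite purely inseparable extensions. -/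
theorem isNormalRing_tensor_of_forall
    (h : ∀ (k' : Type u) [Field k'] [Algebra k k'] [FiniteDimensional k k'] [IsPurelyInseparable k k'],
      EGA4.IsNormalRing (A ⊗[k] k'))
    (K : Type u) [Field K] [Algebra k K] : EGA4.IsNormalRing (A ⊗[k] K) :=
  isNormalRing_tensor_descend k A K (AlgebraicClosure K)
    (isNormalRing_tensor_of_perfectClosure k A (perfectClosure k (AlgebraicClosure K)) (AlgebraicClosure K)
      (isNormalRing_tensor_purelyInseparable k A h _))

end Groth.Agent.VarNormal
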