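import Groth.Prelude.Def_Curv2
import Groth.Prelude.Def_Pi1
import Groth.Agent.VarNormal.GeomNormal
import Groth.Agent.FBase64.Chart
import Mathlib.AlgebraicGeometry.Geometrically.Reduced

/-! Normality of base changes of schemes over a field. -/

universe u

open CategoryTheory CategoryTheory.Limits AlgebraicGeometry
open scoped TensorProduct

set_option backward.isDefEq.respectTransparency.types false

namespace Groth.Agent.VarNormal

variable {k : Type u} [Field k]

theorem isGeometricallyReduced_of_specMap (A : Type u) [CommRing A] [Algebra k A]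
    [h : GeometricallyReduced (Spec.map (CommRingCat.ofHom (algebraMap k A)))] :
    Algebra.IsGeometricallyReduced k A := by
  rw [Algebra.isGeometricallyReduced_field_iff]
  let L := AlgebraicClosure k
  have : AlgebraicGeometry.IsReduced (pullback (Spec.map (CommRingCat.ofHom (algebraMap k A)))
      (Spec.map (CommRingCat.ofHom (algebraMap k L)))) :=
    h.geometrically_isReduced _ _ _ (IsPullback.of_hasPullback _ _)
  have : AlgebraicGeometry.IsReduced (Spec (CommRingCat.of (A ⊗[k] L))) :=
    isReduced_of_isOpenImmersion (pullbackSpecIso k A L).inv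
  have : _root_.IsReduced (CommRingCat.of (A ⊗[k] L)) := (affine_isReduced_iff _).1 this
  exact isReduced_of_injective (Algebra.TensorProduct.comm k L A) (Algebra.TensorProduct.comm k L A).injective

variable {X : Scheme.{u}} [X.Over (Spec (CommRingCat.of k))]

/-- A chart of a base change is normal when the base change is. -/
theorem isNormalRing_chart_of_isNormalScheme {A : Type u} [CommRing A] [Algebra k A]
    (j : Spec (CommRingCat.of A) ⟶ X) [IsOpenImmersion j]
    (hj : j ≫ (X ↘ Spec (CommRingCat.of k)) = Spec.map (CommRingCat.ofHom (algebraMap k A)))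
    (K : Type u) [Field K] [Algebra k K] (h : Pi1.IsNormalScheme (Curv2.bc k X K)) :
    EGA4.IsNormalRing (A ⊗[k] K) := by
  intro R _
  let t := Spec.map (CommRingCat.ofHom (algebraMap k K))
  let P : ↥(Spec (CommRingCat.of (A ⊗[k] K))) := (⟨R, inferInstance⟩ : PrimeSpectrum (A ⊗[k] K))
  obtain ⟨e⟩ := FBase64.nonempty_stalkEquiv (FBase64.prodChart _ t j (𝟙 _) hj (Category.id_comp _)) P
  obtain ⟨_, _⟩ := h (FBase64.prodChart _ t j (𝟙 _) hj (Category.id_comp _) P)
  exact ⟨e.symm.toMulEquiv.isDomain _, IsIntegrallyClosed.of_equiv e⟩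

/-- A base change is normal when the rings of all charts are. -/
theorem isNormalScheme_bc (K : Type u) [Field K] [Algebra k K]
    (h : ∀ (A : Type u) [CommRing A] [Algebra k A] (j : Spec (CommRingCat.of A) ⟶ X) [IsOpenImmersion j],
      j ≫ (X ↘ Spec (CommRingCat.of k)) = Spec.map (CommRingCat.ofHom (algebraMap k A)) →
        EGA4.IsNormalRing (A ⊗[k] K)) :
    Pi1.IsNormalScheme (Curv2.bc k X K) := by
  intro y
  let f := X ↘ Spec (CommRingCat.of k)
  let t := Spec.map (CommRingCat.ofHom (algebraMap k K))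
  obtain ⟨A, _, _, j, _, hx, hj⟩ := FBase64.exists_chart f (pullback.fst f t y)
  obtain ⟨R, rfl⟩ : (show ↥(pullback f t) from y) ∈
      Set.range (FBase64.prodChart f t j (𝟙 _) hj (Category.id_comp _)) := by
    rw [FBase64.range_prodChart]; exact ⟨hx, ⟨_, rfl⟩⟩
  obtain ⟨e⟩ := FBase64.nonempty_stalkEquiv (FBase64.prodChart f t j (𝟙 _) hj (Category.id_comp _)) R
  obtain ⟨_, _⟩ := h A j hj (show PrimeSpectrum (A ⊗[k] K) from R).asIdeal
  exact ⟨e.toMulEquiv.isDomain _, IsIntegrallyClosed.of_equiv e.symm⟩

/-- The rings of charts of a normal scheme are normal. -/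
theorem isNormalRing_of_chart {A : Type u} [CommRing A] (j : Spec (CommRingCat.of A) ⟶ X) [IsOpenImmersion j]
    (h : Pi1.IsNormalScheme X) : EGA4.IsNormalRing A := by
  intro P _
  obtain ⟨e⟩ := FBase64.nonempty_stalkEquiv j (⟨P, inferInstance⟩ : PrimeSpectrum A)
  obtain ⟨_, _⟩ := h (j (⟨P, inferInstance⟩ : PrimeSpectrum A))
  exact ⟨e.symm.toMulEquiv.isDomain _, IsIntegrallyClosed.of_equiv e⟩

end Groth.Agent.VarNormal
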