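import Groth.Agent.VarNormal.Local
import Groth.Agent.VarNormal.Scheme

/-! Points of a base change over a given point, in a chart. -/

universe u

open CategoryTheory CategoryTheory.Limits AlgebraicGeometry
open scoped TensorProduct

set_option backward.isDefEq.respectTransparency.types false

namespace Groth.Agent.VarNormal

variable {k : Type u} [Field k] {X : Scheme.{u}} [X.Over (Spec (CommRingCat.of k))]
  {A : Type u} [CommRing A] [Algebra k A] (j : Spec (CommRingCat.of A) ⟶ X) [IsOpenImmersion j]
  (hj : j ≫ (X ↘ Spec (CommRingCat.of k)) = Spec.map (CommRingCat.ofHom (algebraMap k A)))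

include hj in
/-- Stalks over a point of a chart, as localizations of the tensor product. -/
theorem forall_over_iff (p : PrimeSpectrum A) (K : Type u) [Field K] [Algebra k K] :
    (∀ x' : ↥(Curv2.bc k X K), Curv2.bcFst k X K x' = j p →
        IsDomain ↥((Curv2.bc k X K).presheaf.stalk x') ∧ IsIntegrallyClosed ↥((Curv2.bc k X K).presheaf.stalk x')) ↔
      ∀ (R : Ideal (A ⊗[k] K)) [R.IsPrime], R.comap (algebraMap A (A ⊗[k] K)) = p.asIdeal → NormalAt R := by
  let f := X ↘ Spec (CommRingCat.of k)
  let t := Spec.map (CommRingCat.ofHom (algebraMap k K))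
  let c := FBase64.prodChart f t j (𝟙 _) hj (Category.id_comp _)
  have hfst : ∀ P : ↥(Spec (CommRingCat.of (A ⊗[k] K))),
      pullback.fst f t (c P) = j (Spec.map (CommRingCat.ofHom (algebraMap A (A ⊗[k] K))) P) := fun P => by
    rw [← Scheme.Hom.comp_apply, FBase64.prodChart_fst, Scheme.Hom.comp_apply]
  constructor
  · intro h R _ hR
    let P : ↥(Spec (CommRingCat.of (A ⊗[k] K))) := (⟨R, inferInstance⟩ : PrimeSpectrum (A ⊗[k] K))
    obtain ⟨e⟩ := FBase64.nonempty_stalkEquiv c P
    obtain ⟨_, _⟩ := h (c P) ((hfst P).trans (congrArg j (PrimeSpectrum.ext hR)))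
    exact ⟨e.symm.toMulEquiv.isDomain _, IsIntegrallyClosed.of_equiv e⟩
  · intro h x' hx'
    obtain ⟨P, rfl⟩ : (show ↥(pullback f t) from x') ∈ Set.range c := by
      rw [FBase64.range_prodChart]; exact ⟨⟨p, hx'.symm⟩, ⟨_, rfl⟩⟩
    obtain ⟨e⟩ := FBase64.nonempty_stalkEquiv c P
    obtain ⟨_, _⟩ := h (show PrimeSpectrum (A ⊗[k] K) from P).asIdeal
      (congrArg PrimeSpectrum.asIdeal (j.isOpenEmbedding.injective ((hfst P).symm.trans hx')))
    exact ⟨e.toMulEquiv.isDomain _, IsIntegrallyClosed.of_equiv e.symm⟩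

/-- The chart of a base change over a field, with the scalars on the left. -/
noncomputable def leftChart (k' : Type u) [Field k'] [Algebra k k'] :
    Spec (CommRingCat.of (k' ⊗[k] A)) ⟶ Curv2.bc k X k' :=
  Spec.map (CommRingCat.ofHom (Algebra.TensorProduct.comm k A k').toRingEquiv.toRingHom) ≫
    FBase64.prodChart (X ↘ Spec (CommRingCat.of k)) (Spec.map (CommRingCat.ofHom (algebraMap k k'))) j (𝟙 _) hj
      (Category.id_comp _)

instance (k' : Type u) [Field k'] [Algebra k k'] : IsOpenImmersion (leftChart j hj k') := by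
  have : IsIso (CommRingCat.ofHom (Algebra.TensorProduct.comm k A k').toRingEquiv.toRingHom) :=
    (Algebra.TensorProduct.comm k A k').toRingEquiv.toCommRingCatIso.isIso_hom
  unfold leftChart; infer_instance

theorem leftChart_fst (k' : Type u) [Field k'] [Algebra k k'] :
    leftChart j hj k' ≫ pullback.fst _ _ =
      Spec.map (CommRingCat.ofHom (Algebra.TensorProduct.includeRight : A →ₐ[k] k' ⊗[k] A).toRingHom) ≫ j := by
  rw [leftChart, Category.assoc, FBase64.prodChart_fst, ← Category.assoc, ← Spec.map_comp]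
  rfl

theorem leftChart_snd (k' : Type u) [Field k'] [Algebra k k'] :
    leftChart j hj k' ≫ pullback.snd _ _ = Spec.map (CommRingCat.ofHom (algebraMap k' (k' ⊗[k] A))) := by
  rw [leftChart, FBase64.prodChart, Category.assoc, Category.assoc, pullback.lift_snd, Category.comp_id,
    pullbackSpecIso_inv_snd, ← Spec.map_comp]
  refine congrArg Spec.map (CommRingCat.hom_ext (RingHom.ext fun c => ?_))
  show Algebra.TensorProduct.comm k A k' ((1 : A) ⊗ₜ[k] c) = algebraMap k' (k' ⊗[k] A) c
  rw [Algebra.TensorProduct.comm_tmul, Algebra.TensorProduct.algebraMap_apply]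
  rfl

end Groth.Agent.VarNormal
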