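import Groth.Agent.VarNormal.Separable

/-! Normality of a ring all of whose finite sets come from normal subrings. -/

universe u

open scoped nonZeroDivisors

namespace Groth.Agent.VarNormal

/-- A ring in which every finite set comes from a normal subring is normal. -/
theorem isNormalRing_of_forall_finset_injective {C : Type u} [CommRing C]
    (h : ∀ s : Finset C, ∃ (C₀ : Type u) (_ : CommRing C₀) (j : C₀ →+* C),
      EGA4.IsNormalRing C₀ ∧ Function.Injective j ∧ (s : Set C) ⊆ Set.range j) :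
    EGA4.IsNormalRing C := by
  classical
  intro P _
  let E := Localization.AtPrime P
  have key : ∀ s : Finset C, ∃ (C₀ : Type u) (_ : CommRing C₀) (j : C₀ →+* C) (_ : (P.comap j).IsPrime),
      Function.Injective j ∧ (s : Set C) ⊆ Set.range j ∧
      IsDomain (Localization.AtPrime (P.comap j)) ∧ IsIntegrallyClosed (Localization.AtPrime (P.comap j)) := by
    intro s
    obtain ⟨C₀, _, j, hn, hj, hs⟩ := h s
    have : (P.comap j).IsPrime := Ideal.IsPrime.comap j
    obtain ⟨hd, hi⟩ := hn (P.comap j)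
    exact ⟨C₀, inferInstance, j, this, hj, hs, hd, hi⟩
  have hdom : IsDomain E := by
    have : NoZeroDivisors E := ⟨fun {x y} hxy => by
      obtain ⟨a, s, rfl⟩ := IsLocalization.exists_mk'_eq P.primeCompl x
      obtain ⟨b, t, rfl⟩ := IsLocalization.exists_mk'_eq P.primeCompl y
      rw [← IsLocalization.mk'_mul, IsLocalization.mk'_eq_zero_iff] at hxy
      obtain ⟨w, hw⟩ := hxy
      obtain ⟨C₀, _, j, _, hj, hs, hd, -⟩ := key {a, b, w.1}
      obtain ⟨a₀, ha₀⟩ := hs (a := a) (by simp)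
      obtain ⟨b₀, hb₀⟩ := hs (a := b) (by simp)
      obtain ⟨w₀, hw₀⟩ := hs (a := w.1) (by simp)
      have h0 : algebraMap C₀ (Localization.AtPrime (P.comap j)) a₀ * algebraMap C₀ _ b₀ = 0 := by
        rw [← map_mul, IsLocalization.map_eq_zero_iff (P.comap j).primeCompl]
        exact ⟨⟨w₀, fun e => w.2 (hw₀ ▸ e)⟩, hj (by rw [map_mul, map_mul, map_zero, hw₀, ha₀, hb₀]; exact hw)⟩
      have aux : ∀ (c : C₀) (d : P.primeCompl),
          algebraMap C₀ (Localization.AtPrime (P.comap j)) c = 0 → IsLocalization.mk' E (j c) d = 0 := fun c d hz => by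
        obtain ⟨v, hv⟩ := (IsLocalization.map_eq_zero_iff (P.comap j).primeCompl _ c).1 hz
        rw [IsLocalization.mk'_eq_zero_iff]
        exact ⟨⟨j v.1, v.2⟩, (map_mul j v.1 c).symm.trans (by rw [hv, map_zero])⟩
      rw [← ha₀, ← hb₀]
      exact (mul_eq_zero.1 h0).imp (aux a₀ s) (aux b₀ t)⟩
    exact NoZeroDivisors.to_isDomain E
  refine ⟨hdom, (isIntegrallyClosed_iff (FractionRing E)).2 fun {x} hx => ?_⟩
  obtain ⟨Q, hQ, hQx⟩ := hx
  obtain ⟨a', b', rfl⟩ := IsLocalization.exists_mk'_eq E⁰ x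
  obtain ⟨a, s, rfl⟩ := IsLocalization.exists_mk'_eq P.primeCompl a'
  obtain ⟨b₁, t, hb₁⟩ := IsLocalization.exists_mk'_eq P.primeCompl b'.1
  let A₁ := algebraMap C E (a * t)
  let B₁ := algebraMap C E (b₁ * s)
  have hB₁ : B₁ = b'.1 * algebraMap C E (t.1 * s) := by
    simp only [B₁, map_mul, ← mul_assoc, ← hb₁, IsLocalization.mk'_spec]
  have hB0 : B₁ ≠ 0 := by
    rw [hB₁]
    exact mul_ne_zero (nonZeroDivisors.ne_zero b'.2)
      (IsLocalization.map_units E (t * s : P.primeCompl)).ne_zero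
  obtain ⟨d, hd⟩ := IsLocalization.exist_integer_multiples P.primeCompl (Finset.range (Q.natDegree + 1)) Q.coeff
  choose q hq using hd
  let n := Q.natDegree
  let Z : C := ∑ i : Finset.range (n + 1), q i.1 i.2 * (a * t) ^ i.1 * (b₁ * s) ^ (n - i.1)
  let K := FractionRing E
  let φ := algebraMap E K
  have hφB : φ B₁ ≠ 0 := (map_ne_zero_iff φ (IsFractionRing.injective E K)).2 hB0
  have hxAB : IsLocalization.mk' K (IsLocalization.mk' E a s) b' * φ B₁ = φ A₁ := by
    rw [hB₁, map_mul, ← mul_assoc, IsLocalization.mk'_spec, ← map_mul]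
    refine congrArg φ ?_
    simp only [A₁, map_mul]
    linear_combination (algebraMap C E t.1) * IsLocalization.mk'_spec E a s
  have hZ : algebraMap C E Z = 0 := by
    apply IsFractionRing.injective E K
    rw [map_zero, map_sum, map_sum]
    have h0 : φ (algebraMap C E d) * φ B₁ ^ n *
        Q.eval₂ φ (IsLocalization.mk' K (IsLocalization.mk' E a s) b') = 0 := by rw [hQx, mul_zero]
    rw [Polynomial.eval₂_eq_sum_range, Finset.mul_sum, ← Finset.sum_coe_sort] at h0
    refine Eq.trans (Finset.sum_congr rfl fun i _ => ?_) h0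
    have hni : n - i.1 + i.1 = n := Nat.sub_add_cancel (Nat.lt_succ_iff.1 (Finset.mem_range.1 i.2))
    have hqi : algebraMap C E (q i.1 i.2) = algebraMap C E d * Q.coeff i.1 :=
      (hq i.1 i.2).trans (Algebra.smul_def _ _)
    show φ (algebraMap C E _) = _
    rw [map_mul (algebraMap C E), map_mul (algebraMap C E), map_pow (algebraMap C E), map_pow (algebraMap C E),
      hqi, map_mul φ, map_mul φ, map_mul φ, map_pow φ, map_pow φ,
      show algebraMap C E (a * t) = A₁ from rfl, show algebraMap C E (b₁ * s) = B₁ from rfl, ← hxAB]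
    have hBn : φ B₁ ^ n = φ B₁ ^ (n - i.1) * φ B₁ ^ i.1 := by rw [← pow_add, hni]
    rw [hBn]
    ring
  obtain ⟨w, hw⟩ := (IsLocalization.map_eq_zero_iff P.primeCompl E Z).1 hZ
  obtain ⟨C₀, _, j, _, hj, hs, hd₀, hi₀⟩ := key (insert w.1 (insert (a * t) (insert (b₁ * s)
    (Finset.univ.image fun i : Finset.range (n + 1) => q i.1 i.2))))
  obtain ⟨w₀, hw₀⟩ := hs (a := w.1) (Finset.mem_insert_self _ _)
  obtain ⟨a₀, ha₀⟩ := hs (a := a * t) (Finset.mem_insert_of_mem (Finset.mem_insert_self _ _))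
  obtain ⟨b₀, hb₀⟩ := hs (a := b₁ * s)
    (Finset.mem_insert_of_mem (Finset.mem_insert_of_mem (Finset.mem_insert_self _ _)))
  have hq₀' : ∀ i : Finset.range (n + 1), q i.1 i.2 ∈ Set.range j := fun i => hs
    (Finset.mem_insert_of_mem (Finset.mem_insert_of_mem (Finset.mem_insert_of_mem
      (Finset.mem_image_of_mem _ (Finset.mem_univ i)))))
  choose q₀ hq₀ using hq₀'
  let E₀ := Localization.AtPrime (P.comap j)
  let g : E₀ →+* E := Localization.localRingHom (P.comap j) P j rfl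
  have hg : ∀ c, g (algebraMap C₀ E₀ c) = algebraMap C E (j c) :=
    fun c => Localization.localRingHom_to_map _ _ _ rfl c
  let ι := algebraMap C₀ E₀
  have hsum : ∑ i : Finset.range (n + 1), ι (q₀ i) * ι a₀ ^ i.1 * ι b₀ ^ (n - i.1) = 0 := by
    have e : ι (∑ i : Finset.range (n + 1), q₀ i * a₀ ^ i.1 * b₀ ^ (n - i.1)) = 0 := by
      rw [IsLocalization.map_eq_zero_iff (P.comap j).primeCompl]
      refine ⟨⟨w₀, fun e => w.2 (hw₀ ▸ e)⟩, hj ?_⟩
      rw [map_mul, map_zero, map_sum, hw₀]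
      simp only [map_mul, map_pow, hq₀, ha₀, hb₀]
      exact hw
    simpa only [map_sum, map_mul, map_pow] using e
  have hn : n ∈ Finset.range (n + 1) := Finset.self_mem_range_succ n
  have hlead : IsUnit (ι (q₀ ⟨n, hn⟩)) := by
    refine IsLocalization.map_units E₀ (⟨q₀ ⟨n, hn⟩, fun e => ?_⟩ : (P.comap j).primeCompl)
    have h1 : q n hn ∈ P := hq₀ ⟨n, hn⟩ ▸ e
    have h2 : algebraMap C E (q n hn) = algebraMap C E d :=
      (hq n hn).trans (by rw [Algebra.smul_def, Polynomial.Monic.coeff_natDegree hQ, mul_one])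
    exact (IsLocalization.AtPrime.isUnit_to_map_iff E P (q n hn)).1
      (h2 ▸ IsLocalization.map_units E d) h1
  have hgb : g (ι b₀) = B₁ := (hg b₀).trans (congrArg _ hb₀)
  have hb0 : ι b₀ ≠ 0 := fun e => hB0 (by rw [← hgb, e, map_zero])
  let K₀ := FractionRing E₀
  let ψ := algebraMap E₀ K₀
  let y : K₀ := ψ (ι a₀) / ψ (ι b₀)
  have hψb : ψ (ι b₀) ≠ 0 := (map_ne_zero_iff ψ (IsFractionRing.injective E₀ K₀)).2 hb0
  have hy : IsIntegral E₀ y := by
    let u := hlead.unit
    refine ⟨∑ i : Finset.range (n + 1), Polynomial.monomial i.1 ((u⁻¹ : E₀ˣ) * ι (q₀ i)), ?_, ?_⟩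
    · refine Polynomial.monic_of_natDegree_le_of_coeff_eq_one n ?_ ?_
      · exact Polynomial.natDegree_sum_le_of_forall_le _ _ fun i _ =>
          (Polynomial.natDegree_monomial_le _).trans (Nat.lt_succ_iff.1 (Finset.mem_range.1 i.2))
      · rw [Polynomial.finsetSum_coeff, Finset.sum_eq_single ⟨n, hn⟩]
        · rw [Polynomial.coeff_monomial_same]; exact hlead.val_inv_mul
        · intro i _ hi
          exact Polynomial.coeff_monomial_of_ne _ fun e => hi (Subtype.ext e.symm)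
        · simp
    · rw [Polynomial.eval₂_finsetSum]
      have h3 : ψ (u⁻¹ : E₀ˣ) * (ψ (∑ i : Finset.range (n + 1), ι (q₀ i) * ι a₀ ^ i.1 * ι b₀ ^ (n - i.1)) /
          ψ (ι b₀) ^ n) = 0 := by rw [hsum, map_zero, zero_div, mul_zero]
      rw [map_sum, Finset.sum_div, Finset.mul_sum] at h3
      refine Eq.trans (Finset.sum_congr rfl fun i _ => ?_) h3
      have hni : n - i.1 + i.1 = n := Nat.sub_add_cancel (Nat.lt_succ_iff.1 (Finset.mem_range.1 i.2))
      rw [Polynomial.eval₂_monomial, map_mul, map_mul, map_mul, map_pow, map_pow]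
      simp only [y, div_pow]
      have hBn : ψ (ι b₀) ^ n = ψ (ι b₀) ^ (n - i.1) * ψ (ι b₀) ^ i.1 := by rw [← pow_add, hni]
      rw [hBn]
      have hm : ψ (ι b₀) ^ (n - i.1) ≠ 0 := pow_ne_zero _ hψb
      rw [mul_comm (ψ (ι (q₀ i)) * ψ (ι a₀) ^ i.1) (ψ (ι b₀) ^ (n - i.1)), mul_div_mul_left _ _ hm]
      ring
  obtain ⟨z, hz⟩ := (isIntegrallyClosed_iff K₀).1 hi₀ hy
  have hz' : z * ι b₀ = ι a₀ := IsFractionRing.injective E₀ K₀ (by
    rw [map_mul, hz]; exact div_mul_cancel₀ _ hψb)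
  refine ⟨g z, mul_right_cancel₀ hφB ?_⟩
  rw [hxAB, ← map_mul, ← hgb, ← map_mul, hz']
  exact congrArg φ ((hg a₀).trans (congrArg _ ha₀))

end Groth.Agent.VarNormal
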