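import Groth.Agent.VarNormal.Algebra
import Mathlib.RingTheory.Spectrum.Prime.Homeomorph

/-! Pointwise normality after base field extension. -/

universe u

open scoped TensorProduct

namespace Groth.Agent.VarNormal

/-- The local ring at a prime is a normal domain. -/
def NormalAt {C : Type u} [CommRing C] (P : Ideal C) [P.IsPrime] : Prop :=
  IsDomain (Localization.AtPrime P) ∧ IsIntegrallyClosed (Localization.AtPrime P)

theorem normalAt_congr {C : Type u} [CommRing C] {P P' : Ideal C} [P.IsPrime] [P'.IsPrime] (h : P = P') :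
    NormalAt P ↔ NormalAt P' := by
  subst h; rfl

/-- Local rings of a localization. -/
theorem normalAt_localization_iff {C S : Type u} [CommRing C] [CommRing S] [Algebra C S] (M : Submonoid C)
    [IsLocalization M S] (Q : Ideal S) [Q.IsPrime] :
    NormalAt Q ↔ NormalAt (Q.comap (algebraMap C S)) := by
  have : IsLocalization.AtPrime (Localization.AtPrime Q) (Q.comap (algebraMap C S)) :=
    IsLocalization.isLocalization_isLocalization_atPrime_isLocalization M (Localization.AtPrime Q) Q
  let e := (IsLocalization.algEquiv (Q.comap (algebraMap C S)).primeCompl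
    (Localization.AtPrime (Q.comap (algebraMap C S))) (Localization.AtPrime Q)).toRingEquiv
  constructor
  · rintro ⟨_, _⟩
    exact ⟨e.toMulEquiv.isDomain _, IsIntegrallyClosed.of_equiv e.symm⟩
  · rintro ⟨_, _⟩
    exact ⟨e.symm.toMulEquiv.isDomain _, IsIntegrallyClosed.of_equiv e⟩

/-- Normality descends along a flat map. -/
theorem normalAt_of_flat {C D : Type u} [CommRing C] [CommRing D] (f : C →+* D) (hf : f.Flat)
    (P : Ideal C) [P.IsPrime] (Q : Ideal D) [Q.IsPrime] (hP : P = Q.comap f) (h : NormalAt Q) : NormalAt P := by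
  obtain ⟨_, _⟩ := h
  let g : Localization.AtPrime P →+* Localization.AtPrime Q := Localization.localRingHom P Q f hP
  let := g.toAlgebra
  have : Module.Flat (Localization.AtPrime P) (Localization.AtPrime Q) := hf.localRingHom Q P hP
  have : IsLocalHom (algebraMap (Localization.AtPrime P) (Localization.AtPrime Q)) :=
    Localization.isLocalHom_localRingHom _ _ _ hP
  have := Module.FaithfullyFlat.of_flat_of_isLocalHom (A := Localization.AtPrime P) (B := Localization.AtPrime Q)
  exact Unr55.isNormalDomain_of_faithfullyFlat (Localization.AtPrime P) (Localization.AtPrime Q)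

variable {k : Type u} [Field k]

section

variable (A : Type u) [CommRing A] [Algebra k A] (p : Ideal A) [p.IsPrime] (K : Type u) [Field K] [Algebra k K]

/-- A prime over `p` sees only the local ring at `p`. -/
theorem normalAt_of_isNormalRing_local (h : EGA4.IsNormalRing (Localization.AtPrime p ⊗[k] K))
    (R : Ideal (A ⊗[k] K)) [R.IsPrime] (hR : R.comap (algebraMap A (A ⊗[k] K)) = p) : NormalAt R := by
  let Ap := Localization.AtPrime p
  let φ : A →ₐ[k] Ap := IsScalarTower.toAlgHom k A Ap
  let _ : Algebra (A ⊗[k] K) (Ap ⊗[k] K) :=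
    (Algebra.TensorProduct.map (IsScalarTower.toAlgHom A A Ap) (AlgHom.id k K)).toAlgebra
  have : IsScalarTower A (A ⊗[k] K) (Ap ⊗[k] K) := .of_algebraMap_eq fun x => by
    rw [RingHom.algebraMap_toAlgebra]; simp [Algebra.TensorProduct.algebraMap_apply]
  have := IsLocalization.tensorProduct_tensorProduct k K p.primeCompl Ap (by
    ext x; simp [RingHom.algebraMap_toAlgebra])
  let M := Algebra.algebraMapSubmonoid (A ⊗[k] K) p.primeCompl
  have hd : Disjoint (M : Set (A ⊗[k] K)) R := Set.disjoint_left.2 fun x hx hxR => by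
    obtain ⟨a, ha, rfl⟩ := hx
    exact ha (hR ▸ hxR : a ∈ p)
  have : (R.map (algebraMap (A ⊗[k] K) (Ap ⊗[k] K))).IsPrime :=
    IsLocalization.isPrime_of_isPrime_disjoint M _ R ‹_› hd
  exact (normalAt_congr (IsLocalization.under_map_of_isPrime_disjoint M _ ‹_› hd)).1
    ((normalAt_localization_iff M (R.map (algebraMap (A ⊗[k] K) (Ap ⊗[k] K)))).1 (h _))

/-- For an algebraic extension, the primes over `p` decide the tensor product with the local ring. -/
theorem isNormalRing_local_of_normalAt [Algebra.IsAlgebraic k K]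
    (h : ∀ (R : Ideal (A ⊗[k] K)) [R.IsPrime], R.comap (algebraMap A (A ⊗[k] K)) = p → NormalAt R) :
    EGA4.IsNormalRing (Localization.AtPrime p ⊗[k] K) := by
  let Ap := Localization.AtPrime p
  let _ : Algebra (A ⊗[k] K) (Ap ⊗[k] K) :=
    (Algebra.TensorProduct.map (IsScalarTower.toAlgHom A A Ap) (AlgHom.id k K)).toAlgebra
  have : IsScalarTower A (A ⊗[k] K) (Ap ⊗[k] K) := .of_algebraMap_eq fun x => by
    rw [RingHom.algebraMap_toAlgebra]; simp [Algebra.TensorProduct.algebraMap_apply]
  have := IsLocalization.tensorProduct_tensorProduct k K p.primeCompl Ap (by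
    ext x; simp [RingHom.algebraMap_toAlgebra])
  refine isNormalRing_of_forall_maximal fun Q _ => ?_
  have : Algebra.IsIntegral k K := Algebra.IsAlgebraic.isIntegral
  have hQ : Q.comap (algebraMap Ap (Ap ⊗[k] K)) = IsLocalRing.maximalIdeal Ap :=
    IsLocalRing.eq_maximalIdeal (Ideal.isMaximal_comap_of_isIntegral_of_isMaximal Q)
  refine (normalAt_localization_iff (Algebra.algebraMapSubmonoid (A ⊗[k] K) p.primeCompl) Q).2 (h _ ?_)
  rw [Ideal.comap_comap, ← IsScalarTower.algebraMap_eq A (A ⊗[k] K) (Ap ⊗[k] K),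
    IsScalarTower.algebraMap_eq A Ap (Ap ⊗[k] K), ← Ideal.comap_comap, hQ]
  exact IsLocalization.AtPrime.under_maximalIdeal _ p

/-- Geometric normality at `p` from finite purely inseparable extensions. -/
theorem isNormalRing_local_tensor_of_forall
    (h : ∀ (k' : Type u) [Field k'] [Algebra k k'] [FiniteDimensional k k'] [IsPurelyInseparable k k']
      (R : Ideal (A ⊗[k] k')) [R.IsPrime], R.comap (algebraMap A (A ⊗[k] k')) = p → NormalAt R) :
    EGA4.IsNormalRing (Localization.AtPrime p ⊗[k] K) :=
  isNormalRing_tensor_of_forall k _ (fun k' _ _ _ _ => isNormalRing_local_of_normalAt A p k' (h k')) K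

end

/-- Descent of geometric normality at a point along a base field extension. -/
theorem normalAt_of_baseChange (A : Type u) [CommRing A] [Algebra k A] (k' : Type u) [Field k'] [Algebra k k']
    (P' : Ideal (k' ⊗[k] A)) [P'.IsPrime]
    (h : ∀ (M : Type u) [Field M] [Algebra k' M] (Q : Ideal ((k' ⊗[k] A) ⊗[k'] M)) [Q.IsPrime],
      Q.comap (algebraMap (k' ⊗[k] A) ((k' ⊗[k] A) ⊗[k'] M)) = P' → NormalAt Q)
    (K : Type u) [Field K] [Algebra k K] [IsPurelyInseparable k K]
    (R : Ideal (A ⊗[k] K)) [R.IsPrime]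
    (hR : R.comap (algebraMap A (A ⊗[k] K)) =
      P'.comap (Algebra.TensorProduct.includeRight : A →ₐ[k] k' ⊗[k] A).toRingHom) : NormalAt R := by
  let M := AlgebraicClosure k'
  let σ : K →ₐ[k] M := IsAlgClosed.lift
  let C := k' ⊗[k] A
  have : Module.FaithfullyFlat C (C ⊗[k'] M) := inferInstance
  obtain ⟨Q, hQ⟩ := PrimeSpectrum.comap_surjective_of_faithfullyFlat (A := C) (B := C ⊗[k'] M)
    ⟨P', inferInstance⟩
  have hQ' : Q.asIdeal.comap (algebraMap C (C ⊗[k'] M)) = P' := congrArg PrimeSpectrum.asIdeal hQ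
  let e : C ⊗[k'] M ≃+* A ⊗[k] M := ((Algebra.TensorProduct.comm k' C M).toRingEquiv.trans
    (Algebra.TensorProduct.cancelBaseChange k k' k' M A).toRingEquiv).trans
      (Algebra.TensorProduct.comm k M A).toRingEquiv
  let j := Algebra.TensorProduct.map (AlgHom.id A A) σ
  let g : A ⊗[k] K →+* C ⊗[k'] M := e.symm.toRingHom.comp j.toRingHom
  have hg : g.Flat := RingHom.Flat.comp
    (RingHom.Flat.tensorProductMap (RingHom.Flat.id A)
      (RingHom.Flat.of_isField (Field.toIsField K) σ.toRingHom))
    (RingHom.Flat.of_bijective e.symm.bijective)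
  have hA : g.comp (algebraMap A (A ⊗[k] K)) = (algebraMap C (C ⊗[k'] M)).comp
      (Algebra.TensorProduct.includeRight : A →ₐ[k] k' ⊗[k] A).toRingHom := by
    refine RingHom.ext fun a => e.injective ?_
    show e (e.symm (j (a ⊗ₜ (1 : K)))) = e (((1 : k') ⊗ₜ[k] a) ⊗ₜ[k'] (1 : M))
    rw [RingEquiv.apply_symm_apply]
    show a ⊗ₜ[k] σ 1 = _
    rw [map_one]
    show _ = Algebra.TensorProduct.comm k M A
      (Algebra.TensorProduct.cancelBaseChange k k' k' M A ((1 : M) ⊗ₜ[k'] ((1 : k') ⊗ₜ[k] a)))
    rw [Algebra.TensorProduct.cancelBaseChange_tmul, one_smul, Algebra.TensorProduct.comm_tmul]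
  have hinj : Function.Injective (PrimeSpectrum.comap (algebraMap A (A ⊗[k] K))) :=
    (PrimeSpectrum.isHomeomorph_comap_of_isPurelyInseparable k K A).bijective.injective
  have : (Q.asIdeal.comap g).IsPrime := Ideal.IsPrime.comap g
  have hRQ : R = Q.asIdeal.comap g := by
    refine congrArg PrimeSpectrum.asIdeal (@hinj ⟨R, inferInstance⟩ ⟨Q.asIdeal.comap g, inferInstance⟩ ?_)
    refine PrimeSpectrum.ext ?_
    show R.comap _ = (Q.asIdeal.comap g).comap _
    rw [hR, ← hQ', Ideal.comap_comap, Ideal.comap_comap, hA]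
  exact normalAt_of_flat g hg R Q.asIdeal hRQ (h M Q.asIdeal hQ')

end Groth.Agent.VarNormal
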