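import Groth.Agent.VarNormal.Colim
import Groth.Agent.VarNormal.Local
import Groth.Agent.VarBranch.Steps
import Groth.Agent.Brnch26.Decomp
import Groth.Agent.VarDim1.TotalRing
import Groth.Agent.CAlg4.ReducedCurve
import Mathlib.LinearAlgebra.TensorProduct.RightExactness
import Mathlib.RingTheory.Polynomial.ScaleRoots

/-! The tensor product of a geometrically normal algebra with a normal algebra of finite type. -/

universe u

open scoped TensorProduct nonZeroDivisors

namespace Groth.Agent.VarNormal

/-- A reduced ring with finitely many minimal primes, integrally closed in its total ring of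
fractions, is normal. -/
theorem isNormalRing_of_finite_minimalPrimes (C : Type u) [CommRing C] [IsReduced C]
    (hfin : (minimalPrimes C).Finite)
    (hic : ∀ x : FractionRing C, IsIntegral C x → x ∈ (algebraMap C (FractionRing C)).range) :
    EGA4.IsNormalRing C := by
  classical
  have : Finite (minimalPrimes C) := hfin.to_subtype
  cases nonempty_fintype (minimalPrimes C)
  obtain ⟨ψ, hψ⟩ := Brnch26.exists_normRed_equiv_pi (A := C)
  let q : C ≃+* CAlg2.red C :=
    RingEquiv.ofBijective (Ideal.Quotient.mk (nilradical C))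
      ⟨(injective_iff_map_eq_zero _).2 fun a ha => by
        have := Ideal.Quotient.eq_zero_iff_mem.1 ha
        rwa [nilradical_eq_zero] at this, Ideal.Quotient.mk_surjective⟩
  have hnzd : Submonoid.map q C⁰ = (CAlg2.red C)⁰ := by
    ext z
    refine ⟨?_, fun hz => ⟨q.symm z, ?_, q.apply_symm_apply z⟩⟩
    · rintro ⟨c, hc, rfl⟩
      exact mem_nonZeroDivisors_iff_right.2 fun y hy => by
        obtain ⟨y, rfl⟩ := q.surjective y
        rw [mem_nonZeroDivisors_iff_right.1 hc y (q.injective (by rw [map_mul, map_zero]; exact hy)), map_zero]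
    · exact mem_nonZeroDivisors_iff_right.2 fun y hy => q.injective
        ((mem_nonZeroDivisors_iff_right.1 hz (q y) (by
          rw [← q.apply_symm_apply z, ← map_mul, hy, map_zero])).trans (map_zero q).symm)
  let Q : FractionRing C ≃+* FractionRing (CAlg2.red C) :=
    IsLocalization.ringEquivOfRingEquiv (M := C⁰) (T := (CAlg2.red C)⁰) _ _ q hnzd
  have hQ : ∀ c, Q (algebraMap C _ c) = algebraMap _ _ (q c) :=
    fun c => IsLocalization.map_eq (S := FractionRing C) (Q := FractionRing (CAlg2.red C))
      (g := (q : C →+* CAlg2.red C)) (show C⁰ ≤ (CAlg2.red C)⁰.comap (q : C →+* CAlg2.red C) from fun x hx => (hnzd ▸ Submonoid.mem_map.2 ⟨x, hx, rfl⟩ : q x ∈ (CAlg2.red C)⁰)) c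
  have hbij : Function.Bijective (algebraMap (CAlg2.red C) (CAlg2.normRed C)) := by
    refine ⟨fun x y h => IsFractionRing.injective (CAlg2.red C) (FractionRing (CAlg2.red C))
      (congrArg Subtype.val h), fun y => ?_⟩
    obtain ⟨P, hP, hP'⟩ := y.2
    obtain ⟨c, hc⟩ := hic (Q.symm y.1) ⟨P.map q.symm.toRingHom, hP.map _, by
      rw [Polynomial.eval₂_map]
      have : (algebraMap C (FractionRing C)).comp q.symm.toRingHom =
          Q.symm.toRingHom.comp (algebraMap (CAlg2.red C) (FractionRing (CAlg2.red C))) :=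
        RingHom.ext fun z => Q.injective (by
          show Q (algebraMap C _ (q.symm z)) = Q (Q.symm _)
          rw [hQ, q.apply_symm_apply, Q.apply_symm_apply])
      rw [this]
      exact (Polynomial.hom_eval₂ P _ Q.symm.toRingHom y.1).symm.trans (by rw [hP', map_zero])⟩
    exact ⟨q c, Subtype.ext (by
      show algebraMap _ (FractionRing (CAlg2.red C)) (q c) = y.1
      rw [← hQ, hc, Q.apply_symm_apply])⟩
  let e : C ≃+* (∀ p, Brnch26.Comp C p) := (q.trans (RingEquiv.ofBijective _ hbij)).trans ψ
  refine EGA4H10.isNormalRing_of_ringEquiv e.symm fun P _ => ?_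
  let ε : minimalPrimes C → (∀ p, Brnch26.Comp C p) := fun p => Pi.single p 1
  obtain ⟨p, hp⟩ : ∃ p, ε p ∉ P := by
    by_contra h
    push Not at h
    refine Ideal.IsPrime.ne_top ‹_› ((Ideal.eq_top_iff_one _).2 ?_)
    rw [← Finset.univ_sum_single (1 : ∀ p, Brnch26.Comp C p)]
    exact Ideal.sum_mem _ fun p _ => h p
  obtain ⟨Q', hQ', ⟨eQ⟩⟩ := VarDim1.nonempty_localization_equiv
    (Pi.evalRingHom (fun p => Brnch26.Comp C p) p) (Function.surjective_eval p) (ε p)
    (fun r hr => by
      funext p'
      by_cases h : p' = p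
      · subst h
        show ε p' p' * r p' = 0
        rw [show r p' = 0 from hr, mul_zero]
      · show ε p p' * r p' = 0
        simp [ε, Pi.single_eq_of_ne h])
    P hp
  have : IsFractionRing (Brnch26.Comp C p) p.1.ResidueField := by
    refine IsFractionRing.of_field _ _ fun z => ?_
    obtain ⟨a, ⟨c, hc⟩, rfl⟩ := IsLocalization.exists_mk'_eq (C ⧸ p.1)⁰ z
    obtain ⟨a, rfl⟩ := Ideal.Quotient.mk_surjective a
    obtain ⟨c, rfl⟩ := Ideal.Quotient.mk_surjective c
    exact ⟨algebraMap C _ a, algebraMap C _ c, by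
      rw [IsFractionRing.mk'_eq_div]
      show algebraMap (C ⧸ p.1) p.1.ResidueField (algebraMap C (C ⧸ p.1) a) /
        algebraMap (C ⧸ p.1) p.1.ResidueField (algebraMap C (C ⧸ p.1) c) = _
      rw [← IsScalarTower.algebraMap_apply, ← IsScalarTower.algebraMap_apply]
      rfl⟩
  have : IsIntegrallyClosed (Brnch26.Comp C p) :=
    (isIntegrallyClosed_iff p.1.ResidueField).2 fun {x} hx => ⟨⟨x, isIntegral_trans x hx⟩, rfl⟩
  obtain ⟨_, _⟩ := EGA4H10.normal_of_domain (Brnch26.Comp C p) Q'
  exact ⟨eQ.toMulEquiv.isDomain _, IsIntegrallyClosed.of_equiv eQ.symm⟩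

variable {k : Type u} [Field k] (A : Type u) [CommRing A] [Algebra k A]

/-- Over a discrete valuation ring with reduced special fibre, the tensor product is integrally
closed in the generic one. -/
theorem mem_range_of_isIntegral_dvr (V L : Type u) [CommRing V] [IsDomain V] [IsDiscreteValuationRing V]
    [Algebra k V] [Field L] [Algebra k L] [Algebra V L] [IsFractionRing V L] [IsScalarTower k V L]
    [IsReduced (A ⊗[k] IsLocalRing.ResidueField V)]
    (x : A ⊗[k] L)
    (hx : (Algebra.TensorProduct.map (AlgHom.id k A) (IsScalarTower.toAlgHom k V L)).toRingHom.IsIntegralElem x) :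
    x ∈ (Algebra.TensorProduct.map (AlgHom.id k A) (IsScalarTower.toAlgHom k V L)).range := by
  let j := Algebra.TensorProduct.map (AlgHom.id k A) (IsScalarTower.toAlgHom k V L)
  have hj : Function.Injective j :=
    Module.Flat.lTensor_preserves_injective_linearMap _ (IsFractionRing.injective V L)
  obtain ⟨π, hπ⟩ := IsDiscreteValuationRing.exists_irreducible V
  have hπ0 : algebraMap V L π ≠ 0 := (map_ne_zero_iff _ (IsFractionRing.injective V L)).2 hπ.ne_zero
  have hmul : ∀ v : V, ∀ a : A ⊗[k] V, j ((1 ⊗ₜ v) * a) = ((1 : A) ⊗ₜ[k] algebraMap V L v) * j a := fun v a => by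
    rw [map_mul]; rfl
  -- one step
  have step : ∀ z : A ⊗[k] L, j.toRingHom.IsIntegralElem z →
      ((1 : A) ⊗ₜ[k] algebraMap V L π) * z ∈ j.range → z ∈ j.range := by
    rintro z ⟨P, hP, hPz⟩ ⟨y, hy⟩
    have h0 : (P.scaleRoots ((1 : A) ⊗ₜ[k] π)).eval₂ j.toRingHom (j y) = 0 := by
      have := Polynomial.scaleRoots_eval₂_mul (p := P) j.toRingHom z ((1 : A) ⊗ₜ[k] π)
      rw [hPz, mul_zero] at this
      rwa [show j y = j.toRingHom ((1 : A) ⊗ₜ[k] π) * z from hy.trans rfl]
    have h1 : (P.scaleRoots ((1 : A) ⊗ₜ[k] π)).eval y = 0 := hj (by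
      rw [map_zero, ← h0]; exact Polynomial.hom_eval₂ _ (RingHom.id _) j.toRingHom y)
    let r : V →ₐ[k] IsLocalRing.ResidueField V := IsScalarTower.toAlgHom k V _
    let ρ := Algebra.TensorProduct.map (AlgHom.id k A) r
    have hρπ : ρ ((1 : A) ⊗ₜ[k] π) = 0 := by
      show (1 : A) ⊗ₜ[k] IsLocalRing.residue V π = 0
      rw [(IsLocalRing.residue_eq_zero_iff π).2 hπ.not_isUnit, TensorProduct.tmul_zero]
    have hmap : (P.scaleRoots ((1 : A) ⊗ₜ[k] π)).map ρ.toRingHom = Polynomial.X ^ P.natDegree := by
      ext i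
      rw [Polynomial.coeff_map, Polynomial.coeff_scaleRoots, Polynomial.coeff_X_pow, map_mul, map_pow,
        show ρ.toRingHom ((1 : A) ⊗ₜ[k] π) = 0 from hρπ]
      rcases lt_trichotomy i P.natDegree with h | h | h
      · rw [zero_pow (Nat.sub_ne_zero_of_lt h), mul_zero, if_neg h.ne]
      · subst h; rw [Nat.sub_self, pow_zero, mul_one, hP.coeff_natDegree, map_one, if_pos rfl]
      · rw [Polynomial.coeff_eq_zero_of_natDegree_lt h, map_zero, zero_mul, if_neg h.ne']
    have h2 : ρ y = 0 := by
      refine IsReduced.eq_zero _ ⟨P.natDegree, ?_⟩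
      have := congrArg ρ.toRingHom h1
      rw [map_zero, ← Polynomial.eval₂_at_apply, ← Polynomial.eval_map, hmap, Polynomial.eval_pow,
        Polynomial.eval_X] at this
      exact this
    have h3 : y ∈ RingHom.ker ρ := h2
    have hsurj : Function.Surjective r := Ideal.Quotient.mk_surjective
    rw [Algebra.TensorProduct.lTensor_ker _ hsurj] at h3
    have hker : RingHom.ker r = Ideal.span {π} := by
      show RingHom.ker (IsLocalRing.residue V) = _
      rw [IsLocalRing.ker_residue, hπ.maximalIdeal_eq]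
    rw [hker, Ideal.map_span, Set.image_singleton, Ideal.mem_span_singleton] at h3
    obtain ⟨w, rfl⟩ := h3
    refine ⟨w, ?_⟩
    have hu : IsUnit ((1 : A) ⊗ₜ[k] algebraMap V L π) :=
      (IsUnit.mk0 _ hπ0).map (Algebra.TensorProduct.includeRight : L →ₐ[k] A ⊗[k] L)
    exact hu.mul_left_cancel ((hmul π w).symm.trans hy)
  -- some power of the uniformizer clears denominators
  have hden : ∀ z : A ⊗[k] L, ∃ n : ℕ, ((1 : A) ⊗ₜ[k] algebraMap V L π) ^ n * z ∈ j.range := by
    intro z
    induction z with
    | zero => exact ⟨0, by rw [mul_zero]; exact zero_mem _⟩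
    | add a b ha hb =>
      obtain ⟨n, hn⟩ := ha
      obtain ⟨m, hm⟩ := hb
      refine ⟨n + m, ?_⟩
      rw [mul_add]
      have hπm : ∀ i, ((1 : A) ⊗ₜ[k] algebraMap V L π) ^ i ∈ j.range := fun i =>
        pow_mem (⟨(1 : A) ⊗ₜ[k] π, rfl⟩ : ((1 : A) ⊗ₜ[k] algebraMap V L π) ∈ j.range) i
      refine add_mem ?_ ?_
      · rw [pow_add, mul_comm (_ ^ n), mul_assoc]; exact mul_mem (hπm m) hn
      · rw [pow_add, mul_assoc]; exact mul_mem (hπm n) hm
    | tmul a l =>
      obtain ⟨b, s, rfl⟩ := IsLocalization.exists_mk'_eq V⁰ l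
      obtain ⟨n, u, hu⟩ := IsDiscreteValuationRing.eq_unit_mul_pow_irreducible (nonZeroDivisors.ne_zero s.2) hπ
      refine ⟨n, a ⊗ₜ ((u⁻¹ : Vˣ) * b), ?_⟩
      rw [Algebra.TensorProduct.tmul_pow, one_pow, Algebra.TensorProduct.tmul_mul_tmul, one_mul]
      show a ⊗ₜ[k] algebraMap V L _ = _
      congr 1
      rw [← map_pow]
      apply (IsLocalization.map_units L s).mul_right_cancel
      rw [mul_assoc, IsLocalization.mk'_spec, ← map_mul, ← map_mul]
      refine congrArg _ ?_
      rw [hu, ← mul_assoc, mul_comm ((u⁻¹ : Vˣ) : V) b, mul_assoc b, Units.inv_mul, mul_one, mul_comm]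
  obtain ⟨n, hn⟩ := hden x
  induction n with
  | zero => rwa [pow_zero, one_mul] at hn
  | succ n ih =>
    refine ih (step _ ?_ ?_)
    · refine RingHom.IsIntegralElem.mul _ ?_ hx
      rw [show ((1 : A) ⊗ₜ[k] algebraMap V L π) ^ n = j.toRingHom (((1 : A) ⊗ₜ[k] π) ^ n) by
        rw [map_pow]; rfl]
      exact j.toRingHom.isIntegralElem_map
    · rwa [← mul_assoc, ← pow_succ']

/-- A geometrically normal domain tensor a normal domain of finite type is normal. -/
theorem isNormalRing_tensor_of_finiteType [IsDomain A]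
    (hA : ∀ (K : Type u) [Field K] [Algebra k K], EGA4.IsNormalRing (A ⊗[k] K))
    (B : Type u) [CommRing B] [IsDomain B] [IsIntegrallyClosed B] [Algebra k B] [Algebra.FiniteType k B] :
    EGA4.IsNormalRing (A ⊗[k] B) := by
  classical
  let L := FractionRing B
  have : IsNoetherianRing B := Algebra.FiniteType.isNoetherianRing k B
  let _ : Algebra (A ⊗[k] B) (A ⊗[k] L) :=
    (Algebra.TensorProduct.map (AlgHom.id A A) (IsScalarTower.toAlgHom k B L)).toAlgebra
  have : IsScalarTower A (A ⊗[k] B) (A ⊗[k] L) := .of_algebraMap_eq fun x => by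
    rw [RingHom.algebraMap_toAlgebra]; simp [Algebra.TensorProduct.algebraMap_apply]
  let M := Submonoid.map (Algebra.TensorProduct.includeRight (R := k) (A := A) (B := B)) B⁰
  have hloc : IsLocalization M (A ⊗[k] L) := IsLocalization.tensorProduct_tensorProduct_right k A B⁰ L (by
    ext x; simp [RingHom.algebraMap_toAlgebra])
  have hinj : Function.Injective (algebraMap (A ⊗[k] B) (A ⊗[k] L)) :=
    Module.Flat.lTensor_preserves_injective_linearMap (IsScalarTower.toAlgHom k B L).toLinearMap
      (IsFractionRing.injective B L)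
  have hM : M ≤ (A ⊗[k] B)⁰ := fun m hm => mem_nonZeroDivisors_iff_right.2 fun z hz => hinj (by
    have := congrArg (algebraMap (A ⊗[k] B) (A ⊗[k] L)) hz
    rw [map_mul, map_zero] at this
    rw [map_zero]
    exact (IsLocalization.map_units (A ⊗[k] L) ⟨m, hm⟩).mul_left_eq_zero.1 this)
  have hred : IsReduced (A ⊗[k] L) := VarBranch.isReduced_of_isNormalRing (hA L)
  have : IsReduced (A ⊗[k] B) := isReduced_of_injective _ hinj
  -- integrally closed in the generic tensor product
  have hicL : ∀ x : A ⊗[k] L, IsIntegral (A ⊗[k] B) x → x ∈ (algebraMap (A ⊗[k] B) (A ⊗[k] L)).range := by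
    intro x hx
    let bA := Module.Free.chooseBasis k A
    let ι := Module.Free.ChooseBasisIndex k A
    let cL := TensorProduct.equivFinsuppOfBasisLeft (N := L) bA
    have hc : ∀ i, ∃ b : B, algebraMap B L b = cL x i := by
      intro i
      obtain ⟨β, δ, hβ⟩ := IsLocalization.exists_mk'_eq B⁰ (cL x i)
      suffices hd : δ.1 ∣ β by
        obtain ⟨c, hc⟩ := hd
        refine ⟨c, ?_⟩
        rw [← hβ, eq_comm, IsLocalization.mk'_eq_iff_eq_mul, ← map_mul, mul_comm, hc]
      refine CAlg4.ReducedCurve.dvd_of_forall_height_one δ.1 β (nonZeroDivisors.ne_zero δ.2) fun P _ hP _ => ?_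
      let V := Localization.AtPrime P
      have := CAlg4.ReducedCurve.dvr_of_height_one P hP
      let _ : Algebra V L := (IsLocalization.lift (M := P.primeCompl) (S := V) (g := algebraMap B L)
        (fun y => isUnit_iff_ne_zero.2 ((map_ne_zero_iff _ (IsFractionRing.injective B L)).2
          (fun h => y.2 (h ▸ P.zero_mem))))).toAlgebra
      have : IsScalarTower B V L := .of_algebraMap_eq fun y => (IsLocalization.lift_eq _ y).symm
      have : IsScalarTower k V L := .of_algebraMap_eq fun y => by
        rw [IsScalarTower.algebraMap_apply k B V, ← IsScalarTower.algebraMap_apply B V L,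
          ← IsScalarTower.algebraMap_apply k B L]
      have : IsFractionRing V L := IsFractionRing.isFractionRing_of_isDomain_of_isLocalization P.primeCompl V L
      have : IsReduced (A ⊗[k] IsLocalRing.ResidueField V) := VarBranch.isReduced_of_isNormalRing (hA _)
      obtain ⟨z, hz⟩ := mem_range_of_isIntegral_dvr A V L x (by
        obtain ⟨Q, hQ, hQx⟩ := hx
        refine ⟨Q.map (Algebra.TensorProduct.map (AlgHom.id k A) (IsScalarTower.toAlgHom k B V)).toRingHom,
          hQ.map _, ?_⟩
        rw [Polynomial.eval₂_map]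
        refine Eq.trans ?_ hQx
        refine congrArg (fun g => Polynomial.eval₂ g x Q) ?_
        refine RingHom.ext fun w => ?_
        induction w with
        | zero => simp
        | add a b ha hb => simp only [map_add, ha, hb]
        | tmul a b =>
          show a ⊗ₜ[k] algebraMap V L (algebraMap B V b) = a ⊗ₜ[k] algebraMap B L b
          rw [← IsScalarTower.algebraMap_apply])
      have hnat : ∀ w : A ⊗[k] V, cL (Algebra.TensorProduct.map (AlgHom.id k A) (IsScalarTower.toAlgHom k V L) w) i =
          algebraMap V L (TensorProduct.equivFinsuppOfBasisLeft (N := V) bA w i) := fun w => by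
        induction w with
        | zero => simp
        | add a b ha hb => simp only [map_add, Finsupp.add_apply, ha, hb]
        | tmul a b =>
          show cL (a ⊗ₜ[k] algebraMap V L b) i = _
          simp [cL, Algebra.smul_def, IsScalarTower.algebraMap_apply k V L]
      refine ⟨TensorProduct.equivFinsuppOfBasisLeft (N := V) bA z i, IsFractionRing.injective V L ?_⟩
      rw [map_mul, ← hnat, show Algebra.TensorProduct.map (AlgHom.id k A) (IsScalarTower.toAlgHom k V L) z = x from hz,
        ← hβ, ← IsScalarTower.algebraMap_apply, ← IsScalarTower.algebraMap_apply, mul_comm, IsLocalization.mk'_spec]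
    choose b hb using hc
    refine ⟨∑ i ∈ (cL x).support, bA i ⊗ₜ[k] b i, cL.injective (Finsupp.ext fun i => ?_)⟩
    rw [map_sum, map_sum, Finsupp.finsetSum_apply]
    have : ∀ l, cL (algebraMap (A ⊗[k] B) (A ⊗[k] L) (bA l ⊗ₜ[k] b l)) i = if l = i then cL x l else 0 := fun l => by
      show cL (bA l ⊗ₜ[k] algebraMap B L (b l)) i = _
      rw [hb]
      simp [cL, Finsupp.single_apply, ite_smul]
    simp only [this, Finset.sum_ite_eq', Finsupp.mem_support_iff]
    split_ifs with h
    · rfl
    · exact (not_not.1 h).symm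
  -- finitely many minimal primes
  have hfin : (minimalPrimes (A ⊗[k] B)).Finite := by
    let F := FractionRing A
    let _ : Algebra (A ⊗[k] B) (F ⊗[k] B) :=
      (Algebra.TensorProduct.map (IsScalarTower.toAlgHom A A F) (AlgHom.id k B)).toAlgebra
    have : IsScalarTower A (A ⊗[k] B) (F ⊗[k] B) := .of_algebraMap_eq fun x => by
      rw [RingHom.algebraMap_toAlgebra]; simp [Algebra.TensorProduct.algebraMap_apply]
    have hlocF := IsLocalization.tensorProduct_tensorProduct k B A⁰ F (by
      ext x; simp [RingHom.algebraMap_toAlgebra])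
    let N := Algebra.algebraMapSubmonoid (A ⊗[k] B) A⁰
    have : IsNoetherianRing (F ⊗[k] B) := Algebra.FiniteType.isNoetherianRing F _
    have hN : N ≤ (A ⊗[k] B)⁰ := by
      rintro _ ⟨a, ha, rfl⟩
      refine mem_nonZeroDivisors_iff_left.2 fun z hz => ?_
      have hi : Function.Injective (LinearMap.rTensor B (LinearMap.mulLeft k a)) :=
        Module.Flat.rTensor_preserves_injective_linearMap _ fun u v h => mul_left_cancel₀ (nonZeroDivisors.ne_zero ha) h
      have : ∀ z : A ⊗[k] B, LinearMap.rTensor B (LinearMap.mulLeft k a) z = algebraMap A (A ⊗[k] B) a * z :=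
        fun z => by
          induction z with
          | zero => simp
          | add u v hu hv => simp [map_add, hu, hv, mul_add]
          | tmul u v => simp [Algebra.TensorProduct.algebraMap_apply, Algebra.TensorProduct.tmul_mul_tmul]
      exact (map_eq_zero_iff _ hi).1 ((this z).trans hz)
    have hsub : minimalPrimes (A ⊗[k] B) ⊆ Ideal.under (A ⊗[k] B) '' minimalPrimes (F ⊗[k] B) := by
      intro P hP
      have : P.IsPrime := hP.1.1
      have hd : Disjoint (N : Set (A ⊗[k] B)) P := by
        refine Set.disjoint_left.2 fun x hx hxP => ?_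
        exact Set.disjoint_left.1 (Ideal.disjoint_nonZeroDivisors_of_mem_minimalPrimes hP) hxP (hN hx)
      have hu := IsLocalization.under_map_of_isPrime_disjoint N (F ⊗[k] B) ‹P.IsPrime› hd
      refine ⟨P.map (algebraMap (A ⊗[k] B) (F ⊗[k] B)), ?_, hu⟩
      have h1 := IsLocalization.minimalPrimes_map N (F ⊗[k] B) (⊥ : Ideal (A ⊗[k] B))
      rw [Ideal.map_bot] at h1
      show _ ∈ (⊥ : Ideal (F ⊗[k] B)).minimalPrimes
      rw [h1, Set.mem_preimage, hu]
      exact hP
    exact ((minimalPrimes.finite_of_isNoetherianRing (F ⊗[k] B)).image _).subset hsub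
  refine isNormalRing_of_finite_minimalPrimes _ hfin fun x hx => ?_
  let T := FractionRing (A ⊗[k] B)
  let _ : Algebra (A ⊗[k] L) T := (IsLocalization.lift (M := M) (S := A ⊗[k] L) (g := algebraMap (A ⊗[k] B) T)
    fun y => IsLocalization.map_units T (⟨y.1, hM y.2⟩ : (A ⊗[k] B)⁰)).toAlgebra
  have : IsScalarTower (A ⊗[k] B) (A ⊗[k] L) T := .of_algebraMap_eq fun y => (IsLocalization.lift_eq _ y).symm
  have : IsFractionRing (A ⊗[k] L) T :=
    IsFractionRing.isFractionRing_of_isLocalization M (A ⊗[k] L) T hM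
  obtain ⟨y, hy⟩ := VarBranch.mem_range_of_isIntegral_fractionRing (hA L) T (hx.tower_top (A := A ⊗[k] L))
  have hyint : IsIntegral (A ⊗[k] B) y :=
    (isIntegral_algHom_iff (IsScalarTower.toAlgHom (A ⊗[k] B) (A ⊗[k] L) T)
      (IsFractionRing.injective (A ⊗[k] L) T)).1 (by rwa [IsScalarTower.coe_toAlgHom', hy])
  obtain ⟨c, hc⟩ := hicL y hyint
  exact ⟨c, by rw [IsScalarTower.algebraMap_apply (A ⊗[k] B) (A ⊗[k] L) T, hc, hy]⟩

end Groth.Agent.VarNormal
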