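import Groth.Agent.Desc59.SmoothRing
import Groth.Agent.Sep12.Basic
import Groth.Agent.VarBranch.Model
import Groth.Agent.EGA4H10.NormalFlat

/-! Normality after separable extension of the base field, without Noetherian hypotheses. -/

universe u

open scoped TensorProduct nonZeroDivisors

namespace Groth.Agent.VarNormal

/-- A ring in which every finite set comes from a normal domain mapping injectively into it is a
normal domain. -/
theorem isDomain_and_isIntegrallyClosed_of_forall_finset {E : Type u} [CommRing E] [Nontrivial E]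
    (h : ∀ s : Finset E, ∃ (E₀ : Type u) (_ : CommRing E₀) (f : E₀ →+* E),
      IsDomain E₀ ∧ IsIntegrallyClosed E₀ ∧ Function.Injective f ∧ (s : Set E) ⊆ Set.range f) :
    IsDomain E ∧ IsIntegrallyClosed E := by
  classical
  have hdom : IsDomain E := by
    have : NoZeroDivisors E := ⟨fun {a b} hab => by
      obtain ⟨E₀, _, f, _, _, hf, hs⟩ := h {a, b}
      obtain ⟨a₀, rfl⟩ := hs (a := a) (by simp)
      obtain ⟨b₀, rfl⟩ := hs (a := b) (by simp)
      rw [← map_mul, map_eq_zero_iff f hf, mul_eq_zero] at hab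
      exact hab.imp (fun e => by rw [e, map_zero]) (fun e => by rw [e, map_zero])⟩
    exact NoZeroDivisors.to_isDomain E
  refine ⟨hdom, (isIntegrallyClosed_iff (FractionRing E)).2 fun {x} hx => ?_⟩
  obtain ⟨P, hP, hPx⟩ := hx
  obtain ⟨a, b, rfl⟩ := IsLocalization.exists_mk'_eq E⁰ x
  obtain ⟨E₀, _, f, hd, hic, hf, hs⟩ := h (insert a (insert b.1 P.coeffs))
  obtain ⟨a₀, ha₀⟩ := hs (a := a) (by simp)
  obtain ⟨b₀, hb₀⟩ := hs (a := b.1) (by simp)
  have hlift : P ∈ Polynomial.lifts f := by
    rw [Polynomial.lifts_iff_coeff_lifts]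
    intro n
    by_cases h0 : P.coeff n = 0
    · exact ⟨0, by rw [map_zero, h0]⟩
    · exact hs (Finset.mem_insert_of_mem (Finset.mem_insert_of_mem (Polynomial.coeff_mem_coeffs h0)))
  obtain ⟨P₀, hP₀, -, hm⟩ := Polynomial.lifts_and_degree_eq_and_monic hlift hP
  have hb0 : b₀ ∈ E₀⁰ := mem_nonZeroDivisors_iff_ne_zero.2 fun e =>
    nonZeroDivisors.ne_zero b.2 (by rw [← hb₀, e, map_zero])
  have hle : E₀⁰ ≤ E⁰.comap f := fun c hc =>
    mem_nonZeroDivisors_iff_ne_zero.2 fun e => nonZeroDivisors.ne_zero hc ((map_eq_zero_iff f hf).1 e)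
  let F : FractionRing E₀ →+* FractionRing E := IsLocalization.map _ f hle
  have hF : F.comp (algebraMap E₀ (FractionRing E₀)) = (algebraMap E (FractionRing E)).comp f :=
    IsLocalization.map_comp hle
  have hx₀ : F (IsLocalization.mk' _ a₀ ⟨b₀, hb0⟩) = IsLocalization.mk' (FractionRing E) a b := by
    rw [IsLocalization.map_mk']
    exact congrArg₂ (IsLocalization.mk' _) ha₀ (Subtype.ext hb₀)
  obtain ⟨z, hz⟩ := (isIntegrallyClosed_iff (FractionRing E₀)).1 hic (x := IsLocalization.mk' _ a₀ ⟨b₀, hb0⟩)
    ⟨P₀, hm, F.injective (by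
      rw [Polynomial.hom_eval₂, hF, hx₀, ← Polynomial.eval₂_map, hP₀, map_zero]; exact hPx)⟩
  exact ⟨f z, by rw [← RingHom.comp_apply (algebraMap E (FractionRing E)), ← hF, RingHom.comp_apply, hz, hx₀]⟩

/-- A ring in which every finite set comes from a normal ring by a flat map is normal. -/
theorem isNormalRing_of_forall_finset {C : Type u} [CommRing C]
    (h : ∀ s : Finset C, ∃ (C₀ : Type u) (_ : CommRing C₀) (j : C₀ →+* C),
      EGA4.IsNormalRing C₀ ∧ j.Flat ∧ (s : Set C) ⊆ Set.range j) :
    EGA4.IsNormalRing C := by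
  classical
  intro P _
  refine isDomain_and_isIntegrallyClosed_of_forall_finset fun s => ?_
  have hrep : ∀ y : Localization.AtPrime P, ∃ (a : C) (b : P.primeCompl), IsLocalization.mk' _ a b = y :=
    fun y => IsLocalization.exists_mk'_eq P.primeCompl y
  choose num den hnd using hrep
  obtain ⟨C₀, _, j, hn, hj, hs⟩ := h (s.image num ∪ s.image fun y => (den y).1)
  let P₀ := P.comap j
  have : P₀.IsPrime := Ideal.IsPrime.comap j
  obtain ⟨hd, hi⟩ := hn P₀
  let g : Localization.AtPrime P₀ →+* Localization.AtPrime P := Localization.localRingHom P₀ P j rfl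
  refine ⟨Localization.AtPrime P₀, inferInstance, g, hd, hi, ?_, fun y hy => ?_⟩
  · let := g.toAlgebra
    have : Module.Flat (Localization.AtPrime P₀) (Localization.AtPrime P) := hj.localRingHom P P₀ rfl
    have : IsLocalHom (algebraMap (Localization.AtPrime P₀) (Localization.AtPrime P)) :=
      Localization.isLocalHom_localRingHom _ _ _ rfl
    have := Module.FaithfullyFlat.of_flat_of_isLocalHom (A := Localization.AtPrime P₀) (B := Localization.AtPrime P)
    exact FaithfulSMul.algebraMap_injective (Localization.AtPrime P₀) (Localization.AtPrime P)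
  · obtain ⟨a₀, ha₀⟩ := hs (a := num y) (Finset.mem_union_left _ (Finset.mem_image_of_mem _ hy))
    obtain ⟨b₀, hb₀⟩ := hs (a := (den y).1) (Finset.mem_union_right _ (Finset.mem_image.2 ⟨y, hy, rfl⟩))
    have hb : b₀ ∈ P₀.primeCompl := fun e => (den y).2 (hb₀ ▸ e)
    refine ⟨IsLocalization.mk' _ a₀ ⟨b₀, hb⟩, ?_⟩
    rw [← hnd y]
    refine (Localization.localRingHom_mk' P₀ P j rfl _ _).trans ?_
    exact congrArg₂ (IsLocalization.mk' _) ha₀ (Subtype.ext hb₀)

variable (k : Type u) [Field k]

theorem isNormalRing_tensor_smooth (A S : Type u) [CommRing A] [Algebra k A] (hA : EGA4.IsNormalRing A)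
    [CommRing S] [Algebra k S] [Algebra.Smooth k S] : EGA4.IsNormalRing (A ⊗[k] S) := fun q _ =>
  (Desc59.SmoothRing.normal_iff A (A ⊗[k] S) q).2 (hA (q.under A))

theorem isNormalRing_tensor_smooth_model (A S K : Type u) [CommRing A] [Algebra k A] (hA : EGA4.IsNormalRing A)
    [CommRing S] [Algebra k S] [Algebra.Smooth k S] [Field K] [Algebra k K] [Algebra S K]
    [IsScalarTower k S K] [IsFractionRing S K] : EGA4.IsNormalRing (A ⊗[k] K) := by
  let _ : Algebra (A ⊗[k] S) (A ⊗[k] K) :=
    (Algebra.TensorProduct.map (AlgHom.id A A) (IsScalarTower.toAlgHom k S K)).toAlgebra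
  have : IsScalarTower A (A ⊗[k] S) (A ⊗[k] K) := .of_algebraMap_eq fun x => by
    rw [RingHom.algebraMap_toAlgebra]; simp [Algebra.TensorProduct.algebraMap_apply]
  have := IsLocalization.tensorProduct_tensorProduct_right k A S⁰ K (by
    ext x; simp [RingHom.algebraMap_toAlgebra])
  exact VarBranch.isNormalRing_localization
    (Submonoid.map (Algebra.TensorProduct.includeRight (R := k) (A := A) (B := S)) S⁰) _
    (isNormalRing_tensor_smooth k A S hA)

/-- A normal ring stays normal after a finitely generated separable extension of the base field. -/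
theorem isNormalRing_tensor_essFiniteType (A K : Type u) [CommRing A] [Algebra k A] (hA : EGA4.IsNormalRing A)
    [Field K] [Algebra k K] [Algebra.EssFiniteType k K] [Algebra.FormallySmooth k K] :
    EGA4.IsNormalRing (A ⊗[k] K) := by
  let S₀ := Algebra.EssFiniteType.subalgebra k K
  have : Algebra.FiniteType k S₀ := inferInstance
  have : IsFractionRing S₀ K := by
    refine IsFractionRing.of_field _ _ fun z => ?_
    obtain ⟨a, s, rfl⟩ := IsLocalization.exists_mk'_eq (Algebra.EssFiniteType.submonoid k K) z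
    refine ⟨a, s.1, ?_⟩
    rw [eq_div_iff]
    · exact IsLocalization.mk'_spec K a s
    · exact (IsLocalization.map_units K s).ne_zero
  have : Algebra.FinitePresentation k S₀ := Algebra.FinitePresentation.of_finiteType.mp inferInstance
  have hbot : (⊥ : Ideal S₀).primeCompl = S₀⁰ := by
    ext x; simp [Ideal.primeCompl, mem_nonZeroDivisors_iff_ne_zero]
  have : IsLocalization.AtPrime K (⊥ : Ideal S₀) := by
    show IsLocalization (⊥ : Ideal S₀).primeCompl K
    rw [hbot]; infer_instance
  have : Algebra.IsSmoothAt k (⊥ : Ideal S₀) :=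
    Algebra.FormallySmooth.of_equiv ((IsLocalization.algEquiv (⊥ : Ideal S₀).primeCompl K
      (Localization.AtPrime (⊥ : Ideal S₀))).restrictScalars k)
  obtain ⟨g, hg, hsm⟩ := Algebra.IsSmoothAt.exists_notMem_smooth (R := k) (⊥ : Ideal S₀)
  let S := Localization.Away g
  have hg0 : g ≠ 0 := fun h => hg (by rw [h]; exact zero_mem _)
  let _ : Algebra S K := (IsLocalization.Away.lift (S := S) g (g := algebraMap S₀ K)
    (isUnit_iff_ne_zero.2 ((map_ne_zero_iff _ (IsFractionRing.injective S₀ K)).2 hg0))).toAlgebra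
  have : IsScalarTower S₀ S K := .of_algebraMap_eq fun x => (IsLocalization.Away.lift_eq g _ x).symm
  have : IsScalarTower k S K := .of_algebraMap_eq fun x => by
    rw [IsScalarTower.algebraMap_apply k S₀ K, IsScalarTower.algebraMap_apply k S₀ S,
      ← IsScalarTower.algebraMap_apply S₀ S K]
  have : IsFractionRing S K :=
    IsFractionRing.isFractionRing_of_isDomain_of_isLocalization (Submonoid.powers g) S K
  exact isNormalRing_tensor_smooth_model k A S K hA

/-- A normal ring stays normal after a separable extension of the base field. -/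
theorem isNormalRing_tensor_separable (A K : Type u) [CommRing A] [Algebra k A] (hA : EGA4.IsNormalRing A)
    [Field K] [Algebra k K] [Algebra.IsGeometricallyReduced k K] : EGA4.IsNormalRing (A ⊗[k] K) := by
  classical
  refine isNormalRing_of_forall_finset fun s => ?_
  choose S hS using fun x : A ⊗[k] K => TensorProduct.exists_finset x
  let T : Finset K := s.biUnion fun x => (S x).image Prod.snd
  let K₀ : IntermediateField k K := IntermediateField.adjoin k (T : Set K)
  have hfg : Algebra.EssFiniteType k K₀ :=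
    IntermediateField.essFiniteType_iff.2 (IntermediateField.fg_adjoin_finset T)
  have : Algebra.IsGeometricallyReduced k K₀ :=
    Algebra.IsGeometricallyReduced.of_injective K₀.val K₀.val.injective
  have : Algebra.FormallySmooth k K₀ := Sep12.formallySmooth_iff_isGeometricallyReduced.2 inferInstance
  let j := Algebra.TensorProduct.map (AlgHom.id A A) K₀.val
  refine ⟨A ⊗[k] K₀, inferInstance, j.toRingHom, isNormalRing_tensor_essFiniteType k A K₀ hA, ?_, fun x hx => ?_⟩
  · exact RingHom.Flat.tensorProductMap (RingHom.Flat.id A)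
      (RingHom.Flat.of_isField (Field.toIsField K₀) K₀.val.toRingHom)
  · rw [hS x]
    refine ⟨∑ i : (S x), i.1.1 ⊗ₜ ⟨i.1.2, IntermediateField.subset_adjoin k (T : Set K)
      (Finset.mem_coe.2 (Finset.mem_biUnion.2 ⟨x, hx, Finset.mem_image_of_mem _ i.2⟩))⟩, ?_⟩
    show j _ = _
    rw [map_sum, ← Finset.sum_coe_sort (S x)]
    rfl

end Groth.Agent.VarNormal
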